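import Groth.Agent.ThickAffine.Main
import Groth.Agent.IdealComap.Basic
import Mathlib.AlgebraicGeometry.Morphisms.ClosedImmersion

/-!
# Closed immersions detected modulo a nilpotent ideal of the source
-/

set_option autoImplicit false
universe u

open CategoryTheory AlgebraicGeometry TopologicalSpace

namespace Groth.Agent.NilClosed

/-- A ring map surjective modulo a nilpotent ideal `J` generated by the image modulo `J ^ 2` is surjective. -/
theorem surjective_of_nilpotent {A B : Type*} [CommRing A] [CommRing B] (φ : A →+* B) (J : Ideal B) (n : ℕ)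
    (hn : J ^ n = ⊥) (hs : ∀ b, ∃ r, b - φ r ∈ J) (hJ : J ≤ (J.comap φ).map φ ⊔ J ^ 2) :
    Function.Surjective φ := by
  have h1 : ∀ x ∈ J, ∃ t, x - φ t ∈ J ^ 2 := by
    intro x hx
    obtain ⟨w, hw, y, hy, rfl⟩ := Submodule.mem_sup.mp (hJ hx)
    suffices ∃ t, φ t ∈ J ∧ w - φ t ∈ J ^ 2 by
      obtain ⟨t, -, ht⟩ := this
      exact ⟨t, by rw [add_sub_right_comm]; exact add_mem ht hy⟩
    clear hx hy
    rw [Ideal.map] at hw
    induction hw using Submodule.span_induction with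
    | mem z hz =>
      obtain ⟨t, ht, rfl⟩ := hz
      exact ⟨t, ht, by simp⟩
    | zero => exact ⟨0, by simp, by simp⟩
    | add z w _ _ hz hw =>
      obtain ⟨t, ht, ht'⟩ := hz
      obtain ⟨s, hs, hs'⟩ := hw
      exact ⟨t + s, by rw [map_add]; exact add_mem ht hs, by rw [map_add, add_sub_add_comm]; exact add_mem ht' hs'⟩
    | smul c z _ hz =>
      obtain ⟨t, ht, ht'⟩ := hz
      obtain ⟨s, hs⟩ := hs c
      refine ⟨s * t, by rw [map_mul]; exact J.mul_mem_left _ ht, ?_⟩
      rw [smul_eq_mul, map_mul, show c * z - φ s * φ t = c * (z - φ t) + (c - φ s) * φ t by ring, pow_two]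
      exact add_mem (by rw [pow_two] at ht'; exact Ideal.mul_mem_left _ _ ht') (Ideal.mul_mem_mul hs ht)
  have hP : ∀ k, ∀ z ∈ J ^ k, ∃ t, z - φ t ∈ J ^ (k + 1) := by
    intro k
    induction k with
    | zero => intro z _; rw [pow_one]; exact hs z
    | succ k ih =>
      intro z hz
      rw [pow_succ] at hz
      refine Submodule.mul_induction_on hz (fun a ha x hx => ?_) ?_
      · obtain ⟨s, hs'⟩ := ih a ha
        obtain ⟨t, ht⟩ := h1 x hx
        refine ⟨s * t, ?_⟩
        have hφs : φ s ∈ J ^ k := by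
          have h := sub_mem ha (Ideal.pow_le_pow_right k.le_succ hs')
          simpa using h
        rw [map_mul, show a * x - φ s * φ t = (a - φ s) * x + φ s * (x - φ t) by ring]
        refine add_mem ?_ ?_
        · rw [pow_succ]
          exact Ideal.mul_mem_mul hs' hx
        · rw [show k + 1 + 1 = k + 2 from rfl, pow_add]
          exact Ideal.mul_mem_mul hφs ht
      · rintro a b ⟨s, hs'⟩ ⟨t, ht⟩
        exact ⟨s + t, by rw [map_add, add_sub_add_comm]; exact add_mem hs' ht⟩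
  have hQ : ∀ k, ∀ b, ∃ r, b - φ r ∈ J ^ k := by
    intro k
    induction k with
    | zero => exact fun b => ⟨0, by simp⟩
    | succ k ih =>
      intro b
      obtain ⟨r, hr⟩ := ih b
      obtain ⟨t, ht⟩ := hP k _ hr
      exact ⟨r + t, by rwa [map_add, ← sub_sub]⟩
  intro b
  obtain ⟨r, hr⟩ := hQ n b
  rw [hn, Ideal.mem_bot, sub_eq_zero] at hr
  exact ⟨r, hr.symm⟩

theorem surjective_of_pow_eq_bot {X₀ X : Scheme.{u}} (j : X₀ ⟶ X) [IsClosedImmersion j] (n : ℕ)
    (hn : ∀ U : X.affineOpens, (j.ker.ideal U) ^ n = ⊥) : Function.Surjective j := by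
  intro x
  obtain ⟨U, hU, hxU, -⟩ := exists_isAffineOpen_mem_and_subset (x := x) (U := (⊤ : X.Opens)) trivial
  have hx : x ∈ (j.ker.support : Set X) ∩ U := by
    rw [Scheme.IdealSheafData.coe_support_inter _ ⟨U, hU⟩]
    refine ⟨?_, hxU⟩
    rw [Scheme.mem_zeroLocus_iff]
    intro a ha hxa
    have h0 : a ^ (n + 1) = 0 := by
      have : a ^ n = 0 := by
        rw [← Ideal.mem_bot, ← hn ⟨U, hU⟩]
        exact Ideal.pow_mem_pow ha n
      rw [pow_succ, this, zero_mul]
    rw [← X.basicOpen_pow (n := n + 1) (h := Nat.succ_pos n) (f := a), h0, Scheme.basicOpen_zero] at hxa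
    exact hxa
  have hr : Set.range j = j.ker.support := by
    rw [Scheme.Hom.support_ker, j.isClosedEmbedding.isClosed_range.closure_eq]
  exact hr.ge hx.1

/-- A morphism is a closed immersion as soon as it is one modulo a nilpotent ideal `J` with `J` generated by
pulled back functions modulo `J ^ 2`. -/
theorem isClosedImmersion_of_nilpotent {X₀ X Y : Scheme.{u}} (j : X₀ ⟶ X) [IsClosedImmersion j] (F : X ⟶ Y)
    [IsClosedImmersion (j ≫ F)] (I : X.IdealSheafData) (n : ℕ)
    (hn : ∀ U : X.affineOpens, (I.ideal U) ^ n = ⊥) (hle : ∀ U : X.affineOpens, j.ker.ideal U ≤ I.ideal U)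
    (hgen : ∀ (V : Y.affineOpens) (U : X.affineOpens), U.1 = F ⁻¹ᵁ V.1 → ∀ h : U.1 ≤ F ⁻¹ᵁ V.1,
      I.ideal U ≤ ((I.ideal U).comap (F.appLE V.1 U.1 h).hom).map (F.appLE V.1 U.1 h).hom ⊔ (I.ideal U) ^ 2) :
    IsClosedImmersion F := by
  have hsurj := surjective_of_pow_eq_bot j n fun U => eq_bot_iff.mpr ((Ideal.pow_right_mono (hle U) n).trans (hn U).le)
  have haff : IsAffineHom F := ⟨fun V hV => by
    haveI : IsAffine ((j ⁻¹ᵁ (F ⁻¹ᵁ V)) : Scheme.{u}) := by
      rw [← Scheme.Hom.comp_preimage]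
      exact hV.preimage (j ≫ F)
    exact Groth.Agent.ThickAffine.isAffine_of_surjective (j ∣_ (F ⁻¹ᵁ V))
      (IsZariskiLocalAtTarget.restrict (P := @Surjective) ⟨hsurj⟩ (F ⁻¹ᵁ V)).surj⟩
  refine isClosedImmersion_iff_isAffineHom.2 ⟨haff, fun V hV => ?_⟩
  let U : X.affineOpens := ⟨F ⁻¹ᵁ V, hV.preimage F⟩
  rw [F.app_eq_appLE]
  refine surjective_of_nilpotent _ (I.ideal U) n (hn U) (fun b => ?_) (hgen ⟨V, hV⟩ U rfl le_rfl)
  obtain ⟨r, hr⟩ := (j ≫ F).app_surjective V hV ((j.app U.1).hom b)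
  refine ⟨r, hle U ?_⟩
  rw [Scheme.Hom.ker_apply, RingHom.mem_ker, map_sub, sub_eq_zero, ← hr, ← F.app_eq_appLE, Scheme.Hom.comp_app]
  rfl

end Groth.Agent.NilClosed
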